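import Cfsg.Agent.Lib.Schur.Unitary.SixTwoLevi
import Cfsg.Agent.Lib.Schur.Unitary.Defining
import Cfsg.Agent.Lib.Schur.Unitary.Cross

/-!
The exceptional case `SU₆(2)`: the kernel of a stem extension is an image of the additive group of
the field, given by the failure of one transvection to normalise a complement over the radical.
-/

set_option autoImplicit false

namespace Cfsg.Agent.Schur.Unitary

open Cfsg.Agent.ClassicalSimple Module Subgroup
open Cfsg.Agent.PhanAmalgam (su_form su_add su_scal su_ext)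
open scoped commutatorElement

universe u

variable {F : Type u} [Field F] [Fintype F] (hF : Fintype.card F = 2 ^ 2)
variable {V : Type u} [AddCommGroup V] [Module F V] [FiniteDimensional F V]
variable {h : V →ₛₗ[Forms.qEnd hF] V →ₗ[F] F} (hh : IsUnitaryForm (Forms.qEnd hF) h) (hn : finrank F V = 6)

include hh hn

/-- The part at the prime two dies once the complement is normalised by the Levi factor. -/
theorem ker_eq_bot_of_normalized (fr : Frame h 4) {Γ : Type u} [Group Γ] [Finite Γ] {τ : Γ →* SUH h}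
    (hτ : CentExp 2 τ) (hc : τ.ker ≤ _root_.commutator Γ) {G : Γ} (hG : fr.Mover (τ G))
    (hN : ∀ x, τ x ∈ block h fr.W → x ∈ normalizer (fr.compl₀ hh τ G : Set Γ)) : τ.ker = ⊥ := by
  haveI : Finite (SUH h) := finite_SUH hF hh
  obtain ⟨p', k, hp', hchar, hqp⟩ := Forms.exists_prime_pow_q hF
  have hk : p' = 2 ∧ k = 1 := by
    have hk0 : k ≠ 0 := fun e => by rw [e] at hqp; simp at hqp
    have h2 : p' = 2 := by
      have : p' ∣ 2 := hqp ▸ dvd_pow_self p' hk0
      exact (Nat.prime_dvd_prime_iff_eq hp' Nat.prime_two).1 this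
    subst h2
    exact ⟨rfl, Nat.pow_right_injective le_rfl (hqp.symm.trans (pow_one 2).symm)⟩
  obtain ⟨rfl, rfl⟩ := hk
  haveI := Fact.mk Nat.prime_two
  have hWd := fr.finrank_W hh
  have hhW := restrict_isUnitary hh (fr.nondeg_W hh)
  obtain ⟨eW, -⟩ := exists_blockEquiv hh (fr.nondeg_W hh)
  -- the Levi factor lies in a block of dimension five
  have hL : LocalTriv τ (block h fr.W) := by
    obtain ⟨d, hd⟩ := hh.exists_trace_one
    set v : V := fr.e + d • fr.f with hv_def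
    have hv : h v v = 1 := by
      simp [hv_def, fr.he, fr.hf, fr.hef, fr.hfe]
      linear_combination hd
    set P := Submodule.span F ({v} : Set V)
    have hPn : Nondeg h P := by
      intro u hu hw
      obtain ⟨a, rfl⟩ := Submodule.mem_span_singleton.1 hu
      have e1 := hw v (Submodule.mem_span_singleton_self v)
      rw [map_smulₛₗ, LinearMap.smul_apply, hv, smul_eq_mul, mul_one, map_eq_zero] at e1
      rw [e1, zero_smul]
    have hv0 : v ≠ 0 := fun e => by rw [e] at hv; simp at hv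
    have hPd : finrank F P = 1 := finrank_span_singleton hv0
    have hd' := finrank_perp hh P
    obtain ⟨eU, -⟩ := exists_blockEquiv hh (nondeg_perp hh hPn)
    have hM : MulTriv 2 (block h (perp h P)) := (mulTriv_defining hF Nat.prime_two 5 _ _
      (restrict_isUnitary hh (nondeg_perp hh hPn)) (by omega) (by norm_num) (by unfold Exceptional; omega)).congr eU.symm
    refine (hM.localTriv hτ).mono ?_
    rw [block_perp hh, fix_span]
    intro g hg x hx
    obtain ⟨hge, hgf⟩ := (fr.mem_levi hh).1 hg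
    rw [Set.mem_singleton_iff.1 hx, hv_def, su_add, su_scal, hge, hgf]
  have hQ := fr.localTriv_Q_two hF hh hτ rfl (Or.inr (by norm_num))
  have hH := fr.localTriv_parabolic hh hτ (by norm_num) hQ hL hG hN
  refine ker_eq_bot_of_local τ hτ.central hc Nat.prime_two hτ.exp _ ?_ hH
  rw [Subgroup.index_comap_of_surjective _ hτ.surj]
  refine Val.not_dvd_index _ ?_
  have hd : Disjoint (fr.Q hh) (block h fr.W) := disjoint_iff.2 (fr.Q_inf_levi hh)
  have hnorm : block h fr.W ≤ normalizer (fr.Q hh : Set (SUH h)) := fun a ha =>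
    mem_normalizer_of_conj_le fun v hv => fr.levi_conj_Q hF hh ha hv
  have hL' := val_card_defining hF hhW (p := 2) (k := 1) hqp hWd
  rw [← Nat.card_congr eW.toEquiv] at hL'
  rw [card_sup _ _ hd hnorm, card_Q hF hh fr, padicValNat.mul (pow_ne_zero _ (by norm_num)) Nat.card_pos.ne', hL',
    val_card_defining hF hh (p := 2) (k := 1) hqp hn, padicValNat.prime_pow]

/-- The kernel of a stem extension of `SU₆(2)` is an image of the additive group of the field. -/
theorem exists_ker_range_six {Γ : Type u} [Group Γ] [Finite Γ] (τ : Γ →* SUH h) (hτ : Cfsg.IsStemExtension τ) :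
    ∃ f : Multiplicative F →* Γ, f.range = τ.ker := by
  classical
  haveI : Finite (SUH h) := finite_SUH hF hh
  obtain ⟨m, hm, ⟨fr⟩⟩ := exists_frame hF hh (by omega)
  obtain rfl : m = 4 := by omega
  obtain ⟨h2, hN2, -⟩ := four_facts hF rfl
  have hσ : CentExp (Nat.card τ.ker) τ := ⟨hτ.1, hτ.2.1, fun z hz => by
    have := congrArg Subtype.val (pow_card_eq_one' (x := (⟨z, hz⟩ : τ.ker)))
    simpa using this⟩
  have h40 : 0 < 4 := by norm_num
  have hQ := fr.localTriv_Q_two hF hh hσ rfl (Or.inr (by norm_num))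
  obtain ⟨G, hG, hpair⟩ := fr.exists_pair_movers hF hh rfl hσ
  set K := fr.compl₀ hh τ G
  have hKQ : K.map τ = fr.Q hh := fr.map_compl₀ hh hσ h40 hG
  have hKk : K ⊓ τ.ker = ⊥ := fr.compl₀_inf_ker hh hσ h40 hQ hG
  have huniq : ∀ a ∈ K, ∀ b ∈ K, τ a = τ b → a = b := fun a ha b hb e => by
    have : a⁻¹ * b ∈ K ⊓ τ.ker :=
      Subgroup.mem_inf.2 ⟨mul_mem (inv_mem ha) hb, show τ (a⁻¹ * b) = 1 by rw [map_mul, map_inv, e, inv_mul_cancel]⟩
    rw [hKk, Subgroup.mem_bot, inv_mul_eq_one] at this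
    exact this
  -- the transvection
  set v := fr.vSum hF
  have hv : h v v = 0 := fr.vSum_isotropic hF hh rfl
  set x₀ := tv2 hF hh rfl v hv
  have hx₀L : x₀ ∈ block h fr.W := fr.block_US_le_levi hF hh Finset.univ
    (fr.tv2_mem_US hF hh rfl (fr.vSum_mem hF hh rfl) hv fun i hi => absurd (Finset.mem_univ i) hi)
  obtain ⟨X, hX⟩ := hτ.1 x₀
  have hlift : ∀ k : K, ∃ k' ∈ K, τ k' = τ (X * k * X⁻¹) := fun k => by
    have : τ (X * k * X⁻¹) ∈ K.map τ := by
      rw [hKQ, map_mul, map_mul, map_inv, hX]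
      exact fr.levi_conj_Q hF hh hx₀L (hKQ ▸ mem_map_of_mem τ k.2)
    obtain ⟨k', hk', e⟩ := this
    exact ⟨k', hk', e⟩
  choose s hsK hs using hlift
  let Φ : K →* center Γ := MonoidHom.mk' (fun k => ⟨X * k * X⁻¹ * (s k)⁻¹, hτ.2.1 (by
    rw [MonoidHom.mem_ker, map_mul, map_inv, hs, mul_inv_cancel])⟩) fun a b => Subtype.ext (by
      have e : s (a * b) = s a * s b := huniq _ (hsK _) _ (mul_mem (hsK a) (hsK b)) (by
        rw [map_mul, hs, hs, hs, ← map_mul, Subgroup.coe_mul]; congr 1; group)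
      show X * ((a * b : K) : Γ) * X⁻¹ * (s (a * b))⁻¹ = (X * a * X⁻¹ * (s a)⁻¹) * (X * b * X⁻¹ * (s b)⁻¹)
      have hc : X * b * X⁻¹ * (s b)⁻¹ ∈ center Γ := hτ.2.1 (by
        rw [MonoidHom.mem_ker, map_mul, map_inv, hs, mul_inv_cancel])
      rw [e, mul_inv_rev, Subgroup.coe_mul, mul_assoc (X * a * X⁻¹), mem_center_iff.1 hc (s a)⁻¹]
      group)
  have hΦker : ∀ k, ((Φ k : center Γ) : Γ) ∈ τ.ker := fun k => by
    show τ (X * k * X⁻¹ * (s k)⁻¹) = 1
    rw [map_mul, map_inv, hs, mul_inv_cancel]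
  let QT := (fr.Q hh).comap τ
  have hdD : ∀ (k : K), ((k : Γ)) ∈ ⁅QT, QT⁆ → Φ k = 1 := fun k hk => by
    have hle : (⁅QT, QT⁆ : Subgroup Γ).map (MulAut.conj X).toMonoidHom ≤ ⁅QT, QT⁆ := by
      rw [Subgroup.map_commutator]
      have : QT.map (MulAut.conj X).toMonoidHom ≤ QT := by
        rintro _ ⟨a, ha, rfl⟩
        show τ (X * a * X⁻¹) ∈ fr.Q hh
        rw [map_mul, map_mul, map_inv, hX]
        exact fr.levi_conj_Q hF hh hx₀L ha
      exact commutator_mono this this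
    have hd : X * k * X⁻¹ ∈ K := le_sup_left (a := (⁅QT, QT⁆ : Subgroup Γ)) (hle ⟨k, hk, rfl⟩)
    apply Subtype.ext
    show X * k * X⁻¹ * (s k)⁻¹ = 1
    rw [huniq _ (hsK k) _ hd (hs k), mul_inv_cancel]
  -- the values on the coordinates of the radical
  have hsect : ∀ x : fr.W, ∃ k : K, τ k = fr.R hh (fr.pw hh x) := fun x => by
    have : fr.R hh (fr.pw hh x) ∈ K.map τ := hKQ ▸ fr.R_mem hh _
    obtain ⟨k, hk, e⟩ := this
    exact ⟨⟨k, hk⟩, e⟩
  choose sec hsec using hsect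
  have hval : ∀ (k : K) (p : fr.Par), τ k = fr.R hh p → Φ k = Φ (sec ⟨p.1.1, p.2.1⟩) := by
    intro k p hk
    set k₁ := sec ⟨p.1.1, p.2.1⟩
    obtain ⟨pi, hi1, hi⟩ := fr.exists_R_inv hh (fr.pw hh ⟨p.1.1, p.2.1⟩)
    obtain ⟨z, hz1, -, hz⟩ := fr.exists_R_mul hh pi p
    have hkz : τ ((k₁⁻¹ * k : K) : Γ) = fr.R hh z := by
      rw [Subgroup.coe_mul, Subgroup.coe_inv, map_mul, map_inv, hsec, hk, hi, hz]
    obtain ⟨d, hd, hdz⟩ := fr.zero_mem_commutator_mul hh hσ h40
      (by rw [hz1, hi1]; exact neg_add_cancel _) hkz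
    have hd' : ((k₁⁻¹ * k : K) : Γ) = d :=
      huniq _ (k₁⁻¹ * k).2 _ (le_sup_left (a := (⁅QT, QT⁆ : Subgroup Γ)) hd) hdz.symm
    have := hdD (k₁⁻¹ * k) (hd' ▸ hd)
    rwa [map_mul, map_inv, inv_mul_eq_one, eq_comm] at this
  let g : fr.W → center Γ := fun x => Φ (sec x)
  have hgadd : ∀ x y, g (x + y) = g x * g y := fun x y => by
    obtain ⟨p, hp1, -, hp⟩ := fr.exists_R_mul hh (fr.pw hh x) (fr.pw hh y)
    have := hval (sec x * sec y) p (by rw [Subgroup.coe_mul, map_mul, hsec, hsec, hp])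
    rw [map_mul, show (⟨p.1.1, p.2.1⟩ : fr.W) = x + y from Subtype.ext hp1] at this
    exact this.symm
  let w : Fin 4 → fr.W := fun i => ⟨fr.w i, fr.w_mem i⟩
  let f : Multiplicative F →* Γ := (center Γ).subtype.comp
    (MonoidHom.mk' (fun b => g (b.toAdd • w 0)) fun a b => by
      show g ((a.toAdd + b.toAdd) • w 0) = _
      rw [add_smul, hgadd])
  have hf : ∀ b : F, f (Multiplicative.ofAdd b) = (g (b • w 0) : Γ) := fun b => rfl
  -- all coordinates give the same values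
  have hcoord : ∀ (i : Fin 4) (b : F), g (b • w i) = g (b • w 0) := by
    intro i b
    rcases eq_or_ne i 0 with rfl | hi
    · rfl
    set u : V := fr.w 0 + fr.w i
    have hu : h u u = 0 := by
      simp [u, fr.hww, hi, hi.symm]
      linear_combination h2
    set a := tv2 hF hh rfl u hu
    have hou : ∀ j, j ∉ ({0, i} : Finset (Fin 4)) → h (fr.w j) u = 0 := fun j hj => by
      simp only [Finset.mem_insert, Finset.mem_singleton, not_or] at hj
      simp [u, fr.hww, hj.1, hj.2]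
    have haS : a ∈ block h (fr.US hF {0, i}) :=
      fr.tv2_mem_US hF hh rfl (add_mem (fr.w_mem 0) (fr.w_mem i)) hu hou
    obtain ⟨A, hA⟩ := hτ.1 a
    have hAn := mem_normalizer_iff.1 (hpair _ (Finset.card_pair hi.symm) A (hA ▸ haS))
    have huv : h u v = 0 := by
      simp [u, v, Frame.vSum, map_sum, fr.hww, Finset.sum_add_distrib]
      linear_combination h2
    have hcomm : x₀ * a = a * x₀ := su_ext fun x => by
      simp only [x₀, a, mul_smul, tv2_smul, map_add, map_smul, huv, hh.comm_zero huv, smul_zero, add_zero]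
      abel
    have hinvar : ∀ (k : K) (k' : K), (k' : Γ) = A * k * A⁻¹ → Φ k' = Φ k := by
      intro k k' hk'
      obtain ⟨z, hz, hXA⟩ : ∃ z ∈ center Γ, X * A = A * X * z := ⟨(A * X)⁻¹ * (X * A), hτ.2.1 (by
        rw [MonoidHom.mem_ker, map_mul, map_inv, map_mul, map_mul, hX, hA, hcomm, inv_mul_cancel]), by group⟩
      have hAk : A * s k * A⁻¹ ∈ K := (hAn _).1 (hsK k)
      have hs' : s k' = A * s k * A⁻¹ := huniq _ (hsK k') _ hAk (by
        rw [hs, hk', map_mul _ (A * s k), map_mul _ A, hs]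
        simp only [map_mul, map_inv, hX, hA]
        calc x₀ * (a * τ k * a⁻¹) * x₀⁻¹ = (x₀ * a) * τ k * (x₀ * a)⁻¹ := by group
          _ = (a * x₀) * τ k * (a * x₀)⁻¹ := by rw [hcomm]
          _ = _ := by group)
      apply Subtype.ext
      show X * k' * X⁻¹ * (s k')⁻¹ = X * k * X⁻¹ * (s k)⁻¹
      rw [hs', hk']
      have hzc : z * (k : Γ) * z⁻¹ = k := by rw [← mem_center_iff.1 hz, mul_inv_cancel_right]
      calc X * (A * k * A⁻¹) * X⁻¹ * (A * s k * A⁻¹)⁻¹
          = (X * A) * k * (X * A)⁻¹ * (A * (s k)⁻¹ * A⁻¹) := by group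
        _ = A * X * (z * k * z⁻¹) * X⁻¹ * (s k)⁻¹ * A⁻¹ := by rw [hXA]; group
        _ = A * (X * k * X⁻¹ * (s k)⁻¹) * A⁻¹ := by rw [hzc]; group
        _ = _ := by
          rw [show A * (X * k * X⁻¹ * (s k)⁻¹) = (X * k * X⁻¹ * (s k)⁻¹) * A from mem_center_iff.1 (Φ k).2 A,
            mul_inv_cancel_right]
    have hAw : a • fr.w 0 = fr.w i := by
      rw [tv2_smul]
      simp [u, fr.hww, hi, hi.symm]
      rw [← add_assoc, ← two_smul F (fr.w 0), h2, zero_smul, zero_add]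
    obtain ⟨hae, haf⟩ := (fr.mem_levi hh).1 (fr.block_US_le_levi hF hh _ haS)
    obtain ⟨p, hp1, -, hp⟩ := fr.exists_R_conj hh (g := a) (l := 1) (by rw [hae, one_smul])
      (fun x hx => fr.levi_smul_W hh hae haf hx) (fr.pw hh (b • w 0))
    let k' : K := ⟨A * sec (b • w 0) * A⁻¹, (hAn _).1 (sec (b • w 0)).2⟩
    have e1 : Φ k' = g (b • w 0) := hinvar _ _ rfl
    rw [← e1, hval k' p (by
      show τ (A * sec (b • w 0) * A⁻¹) = _
      rw [map_mul, map_mul, map_inv, hA, hsec, hp])]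
    show Φ (sec (b • w i)) = Φ (sec ⟨p.1.1, p.2.1⟩)
    congr 2
    refine Subtype.ext ?_
    show b • fr.w i = p.1.1
    rw [hp1]
    show b • fr.w i = Forms.qEnd hF 1 • (a • (b • fr.w 0))
    rw [map_one, one_smul, su_scal, hAw]
  have hall : ∀ k : K, ((Φ k : center Γ) : Γ) ∈ f.range := by
    intro k
    obtain ⟨p, hp⟩ : τ k ∈ fr.Q hh := hKQ ▸ mem_map_of_mem τ k.2
    rw [hval k p hp.symm]
    show ((g ⟨p.1.1, p.2.1⟩ : center Γ) : Γ) ∈ f.range
    obtain ⟨a, ha⟩ := fr.W_coords hF hh ⟨p.1.1, p.2.1⟩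
    rw [ha, Fin.sum_univ_four, hgadd, hgadd, hgadd, hcoord 1, hcoord 2, hcoord 3]
    exact mul_mem (mul_mem (mul_mem ⟨_, hf (a 0)⟩ ⟨_, hf (a 1)⟩) ⟨_, hf (a 2)⟩) ⟨_, hf (a 3)⟩
  have hle : f.range ≤ τ.ker := by
    rintro _ ⟨b, rfl⟩
    exact hΦker _
  refine ⟨f, le_antisymm hle (ker_le_of_exponent τ hτ f.range hle fun p hp M _ hM hfM hst hexp => ?_)⟩
  set τ' := QuotientGroup.lift M τ hM
  haveI : CharP F 2 := by
    obtain ⟨p', k, hp', hchar, hqp⟩ := Forms.exists_prime_pow_q hF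
    have hk0 : k ≠ 0 := fun e => by rw [e] at hqp; simp at hqp
    have : p' ∣ 2 := hqp ▸ dvd_pow_self p' hk0
    rwa [(Nat.prime_dvd_prime_iff_eq hp' Nat.prime_two).1 this] at hchar
  rcases eq_or_ne p 2 with rfl | hp2
  · have hτ' : CentExp 2 τ' := ⟨hst.1, hst.2.1, hexp⟩
    let mk := QuotientGroup.mk' M
    have hmk : ∀ x, τ' (mk x) = τ x := fun x => rfl
    have hcomap : ∀ A : Subgroup (SUH h), (A.comap τ).map mk = A.comap τ' := fun A => by
      ext y
      constructor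
      · rintro ⟨x, hx, rfl⟩; exact hx
      · intro hy
        obtain ⟨x, rfl⟩ := QuotientGroup.mk'_surjective M y
        exact ⟨x, hy, rfl⟩
    have hK' : K.map mk = fr.compl₀ hh τ' (mk G) := by
      show (fr.compl₀ hh τ G).map mk = _
      rw [Frame.compl₀, Frame.compl₀, Subgroup.map_sup, Subgroup.map_commutator, MonoidHom.map_closure, hcomap]
      congr 2
      ext y
      constructor
      · rintro ⟨_, ⟨x, hx, rfl⟩, rfl⟩
        exact ⟨mk x, hx, (map_commutatorElement mk G x).symm⟩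
      · rintro ⟨y, hy, rfl⟩
        obtain ⟨x, rfl⟩ := QuotientGroup.mk'_surjective M y
        exact ⟨_, ⟨x, hy, rfl⟩, map_commutatorElement mk G x⟩
    refine ker_eq_bot_of_normalized hF hh hn fr hτ' hst.2.2 (G := mk G) hG fun y hy => ?_
    let N := (normalizer (fr.compl₀ hh τ' (mk G) : Set (Γ ⧸ M))).map τ'
    have hlevi : block h fr.W ≤ N := by
      refine fr.levi_le hF hh rfl N (fun S hS a ha => ?_) ?_
      · obtain ⟨x, rfl⟩ := hτ.1 a
        refine ⟨mk x, ?_, hmk x⟩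
        rw [← hK']
        refine mem_normalizer_of_conj_le ?_
        rintro _ ⟨k, hk, rfl⟩
        exact ⟨_, (mem_normalizer_iff.1 (hpair S hS x ha) k).1 hk, by rw [map_mul, map_mul, map_inv]⟩
      · refine ⟨mk X, ?_, (hmk X).trans hX⟩
        rw [← hK']
        refine mem_normalizer_of_conj_le ?_
        rintro _ ⟨k, hk, rfl⟩
        refine ⟨s ⟨k, hk⟩, hsK _, ?_⟩
        have h1 : mk (X * k * X⁻¹ * (s ⟨k, hk⟩)⁻¹) = 1 := (QuotientGroup.eq_one_iff _).2 (hfM (hall ⟨k, hk⟩))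
        rw [map_mul, map_inv, mul_inv_eq_one, map_mul, map_mul, map_inv] at h1
        exact h1.symm
    obtain ⟨y₁, hy₁, e⟩ := hlevi hy
    have hk : y₁⁻¹ * y ∈ τ'.ker := by rw [MonoidHom.mem_ker, map_mul, map_inv, e, inv_mul_cancel]
    have hkn : y₁⁻¹ * y ∈ normalizer (fr.compl₀ hh τ' (mk G) : Set (Γ ⧸ M)) := mem_normalizer_iff.2 fun k => by
      rw [← mem_center_iff.1 (hst.2.1 hk) k, mul_inv_cancel_right]
    have := mul_mem hy₁ hkn
    rwa [mul_inv_cancel_left] at this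
  · have h1 := mulTriv_cross hF hp Nat.prime_two hp2 V h hh _ τ' ⟨hst.1, hst.2.1, hexp⟩
    rwa [inf_eq_right.2 hst.2.2] at h1

end Cfsg.Agent.Schur.Unitary
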