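import Cfsg.Agent.Lib.Schur.Unitary.Levi

/-!
The Levi factor `SU₄(2)` of `SU₆(2)`: it is generated by the blocks of pairs of coordinates and one
transvection, and lifts of the pair blocks normalise the complements over the radical.
-/

set_option autoImplicit false

namespace Cfsg.Agent.Schur.Unitary

open Cfsg.Agent.ClassicalSimple Module Subgroup
open Cfsg.Agent.PhanAmalgam (su_form su_add su_scal su_ext)

universe u

variable {F V : Type u} [Field F] [Fintype F] [AddCommGroup V] [Module F V] [FiniteDimensional F V]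
variable {q : ℕ} (hF : Fintype.card F = q ^ 2)
variable {h : V →ₛₗ[Forms.qEnd hF] V →ₗ[F] F} (hh : IsUnitaryForm (Forms.qEnd hF) h) (hq : q = 2)

include hh hq

/-- The transvection with centre `v`. -/
noncomputable def tv2 (v : V) (hv : h v v = 0) : SUH h :=
  ⟨uRootElt hh v 0 1 hv (map_zero _) (by
    have h2 := (four_facts hF hq).1
    simp only [map_one, map_zero, LinearMap.zero_apply, add_zero]
    linear_combination h2), uRootElt_det hh _ _ _⟩

theorem tv2_smul (v : V) (hv : h v v = 0) (x : V) : tv2 hF hh hq v hv • x = x + h v x • v := by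
  unfold tv2
  simp only [Subgroup.mk_smul, uRootElt_smul, smul_zero, add_zero, map_zero, LinearMap.zero_apply, one_mul, sub_zero]

theorem tv2_scale (v : V) (hv : h v v = 0) (μ : F) (hμ : μ ≠ 0) (hv' : h (μ • v) (μ • v) = 0) :
    tv2 hF hh hq (μ • v) hv' = tv2 hF hh hq v hv := by
  refine su_ext fun x => ?_
  rw [tv2_smul, tv2_smul, map_smulₛₗ, LinearMap.smul_apply, smul_eq_mul, smul_smul,
    show Forms.qEnd hF μ * h v x * μ = h v x by
      linear_combination h v x * (four_facts hF hq).2.1 μ hμ]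

theorem tv2_conj (g : SUH h) (v : V) (hv : h v v = 0) (hv' : h (g • v) (g • v) = 0) :
    g * tv2 hF hh hq v hv * g⁻¹ = tv2 hF hh hq (g • v) hv' := by
  refine su_ext fun x => ?_
  rw [mul_smul, mul_smul, tv2_smul, su_add, su_scal, smul_inv_smul, tv2_smul]
  conv_rhs => rw [← smul_inv_smul g x, su_form, smul_inv_smul]

/-- The transvections generate. -/
theorem closure_tv2 (h4 : 4 ≤ finrank F V) :
    closure {g : SUH h | ∃ v hv, g = tv2 hF hh hq v hv} = ⊤ := by
  set T := closure {g : SUH h | ∃ v hv, g = tv2 hF hh hq v hv}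
  have : T.Normal := ⟨fun a ha g => by
    have e : T.map (MulAut.conj g).toMonoidHom ≤ T := by
      rw [MonoidHom.map_closure, closure_le]
      rintro _ ⟨_, ⟨v, hv, rfl⟩, rfl⟩
      exact subset_closure ⟨g • v, by rw [su_form]; exact hv, tv2_conj hF hh hq g v hv _⟩
    exact e ⟨a, ha, rfl⟩⟩
  haveI : Finite (SUH h) := finite_SUH hF hh
  rcases SUH_normal_eq_top_or_le_center hh (by omega) (SUH_perfect hh (by omega) (Or.inl h4)) T with hT | hT
  · exact hT
  exfalso
  obtain ⟨s, hs0, hs⟩ := exists_isotropic hh (show 3 ≤ finrank F V by omega)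
  obtain ⟨a, -, ha⟩ := (SUH_mem_center_iff hh (by omega) _).1 (hT (subset_closure ⟨s, hs, rfl⟩))
  have e1 := ha s
  rw [tv2_smul, hs, zero_smul, add_zero] at e1
  have ha1 : a = 1 := (smul_left_injective F hs0 (by simpa using e1)).symm
  obtain ⟨y, hy⟩ := exists_h_ne_zero hh hs0
  have e2 := ha y
  rw [tv2_smul, ha1, one_smul, add_eq_left] at e2
  exact hy ((smul_eq_zero.1 e2).resolve_right hs0)

section Levi

variable (fr : Frame h 4)

omit hq in
theorem Frame.form_w_sum (a : Fin 4 → F) (j : Fin 4) : h (fr.w j) (∑ i, a i • fr.w i) = a j := by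
  simp [map_sum, fr.hww]

/-- The sum of the four orthonormal vectors. -/
noncomputable def Frame.vSum : V := ∑ i, fr.w i

theorem Frame.vSum_mem : fr.vSum hF ∈ fr.W := Submodule.sum_mem _ fun i _ => fr.w_mem i

theorem Frame.vSum_isotropic : h (fr.vSum hF) (fr.vSum hF) = 0 := by
  simp [Frame.vSum, map_sum, fr.hww, Fin.sum_univ_four]
  linear_combination 2 * (four_facts hF hq).1

/-- A transvection with centre in the orthogonal of the plane and support in `S` lies in the block. -/
theorem Frame.tv2_mem_US {S : Finset (Fin 4)} {v : V} (hvW : v ∈ fr.W) (hv : h v v = 0)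
    (hS : ∀ i, i ∉ S → h (fr.w i) v = 0) : tv2 hF hh hq v hv ∈ block h (fr.US hF S) := by
  refine fr.mem_block_US hF hh ((fr.mem_levi hh).2 ?_) fun i hi => ?_
  · obtain ⟨he, hf⟩ := fr.mem_W.1 hvW
    constructor <;> rw [tv2_smul, hh.comm_zero] <;> simp [*]
  · rw [tv2_smul, hh.comm_zero (hS i hi), zero_smul, add_zero]

/-- The pair blocks and one transvection generate the Levi factor. -/
theorem Frame.levi_le (N : Subgroup (SUH h))
    (hpair : ∀ S : Finset (Fin 4), S.card = 2 → block h (fr.US hF S) ≤ N)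
    (hx : tv2 hF hh hq (fr.vSum hF) (fr.vSum_isotropic hF hh hq) ∈ N) : block h fr.W ≤ N := by
  classical
  obtain ⟨h2, hN, -⟩ := four_facts hF hq
  have hmain : ∀ v : V, v ∈ fr.W → ∀ hv : h v v = 0, tv2 hF hh hq v hv ∈ N := by
    intro v hvW hv
    set a : Fin 4 → F := fun i => h (fr.w i) v with ha
    have hexp : v = ∑ i, a i • fr.w i := fr.expand_W hvW
    set s := Finset.univ.filter fun i => a i ≠ 0
    have hsum : ((s.card : ℕ) : F) = 0 := by
      rw [← hv]
      conv_rhs => arg 2; rw [hexp]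
      rw [map_sum, Finset.sum_congr rfl fun i _ => map_smul (h v) _ _,
        ← Finset.sum_filter_of_ne (p := fun i => a i ≠ 0) (fun i _ hi e => hi (by rw [e, zero_smul])),
        Finset.sum_congr rfl fun i hi => ?_, Finset.sum_const, nsmul_eq_mul, mul_one]
      rw [smul_eq_mul, hh.swap (fr.w i) v, mul_comm]
      exact hN _ (Finset.mem_filter.1 hi).2
    have hout : ∀ i, i ∉ s → h (fr.w i) v = 0 := fun i hi => by
      simpa [s] using hi
    have h4 : s.card ≤ 4 := (Finset.card_le_univ s).trans (le_of_eq (Fintype.card_fin 4))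
    have hcases : s.card = 0 ∨ s.card = 2 ∨ s.card = 4 := by
      interval_cases s.card
      · exact Or.inl rfl
      · simp at hsum
      · exact Or.inr (Or.inl rfl)
      · exfalso; apply one_ne_zero (α := F); linear_combination hsum - h2
      · exact Or.inr (Or.inr rfl)
    rcases hcases with hc | hc | hc
    · have : v = 0 := by
        rw [hexp]
        exact Finset.sum_eq_zero fun i _ => by
          rw [show a i = 0 from hout i (by rw [Finset.card_eq_zero.1 hc]; simp), zero_smul]
      have : tv2 hF hh hq v hv = 1 := su_ext fun x => by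
        rw [tv2_smul, this, smul_zero, add_zero, one_smul]
      rw [this]; exact one_mem _
    · exact hpair s hc (fr.tv2_mem_US hF hh hq hvW hv hout)
    · have hne : ∀ i, a i ≠ 0 := fun i => by
        have : i ∈ s := by rw [Finset.eq_univ_of_card s (by rw [hc, Fintype.card_fin])]; exact Finset.mem_univ i
        exact (Finset.mem_filter.1 this).2
      -- torus elements in the pair blocks
      have htor : ∀ (i j : Fin 4) (c : F), i ≠ j → c ≠ 0 → ∃ g ∈ N, g • fr.w i = c • fr.w i ∧
          g • fr.w j = c⁻¹ • fr.w j ∧ ∀ k, k ≠ i → k ≠ j → g • fr.w k = fr.w k := by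
        intro i j c hij hc
        let d : Fin 4 → F := fun k => if k = i then c else if k = j then c⁻¹ else 1
        obtain ⟨g, hge, hgf, hgw⟩ := fr.exists_diag hh (l := 1) (c := d) one_ne_zero
          (fun k => by
            simp only [d]; split_ifs
            · exact hN _ hc
            · exact hN _ (inv_ne_zero hc)
            · exact hN _ one_ne_zero) (by
            rw [map_one, div_one, one_mul,
              ← Finset.prod_subset (Finset.subset_univ ({i, j} : Finset (Fin 4))) (fun k _ hk => ?_),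
              Finset.prod_pair hij]
            · simp [d, hij.symm, hc]
            · simp only [Finset.mem_insert, Finset.mem_singleton, not_or] at hk
              simp [d, hk.1, hk.2])
        refine ⟨g, hpair {i, j} (Finset.card_pair hij) (fr.mem_block_US hF hh ((fr.mem_levi hh).2 ?_) fun k hk => ?_),
          by rw [hgw]; simp [d], by rw [hgw]; simp [d, hij.symm], fun k h1 h3 => by rw [hgw]; simp [d, h1, h3]⟩
        · exact ⟨by rw [hge, one_smul], by rw [hgf, map_one, inv_one, one_smul]⟩
        · simp only [Finset.mem_insert, Finset.mem_singleton, not_or] at hk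
          rw [hgw]; simp [d, hk.1, hk.2]
      set μ := a 0 * a 1 * a 2 * a 3
      have hμ : μ ≠ 0 := by simp [μ, hne]
      obtain ⟨g₁, hg₁, p0, p1, po⟩ := htor 0 1 (a 0 / μ) (by decide) (div_ne_zero (hne _) hμ)
      obtain ⟨g₂, hg₂, q1, q2, qo⟩ := htor 1 2 (a 0 * a 1 / μ ^ 2) (by decide)
        (div_ne_zero (mul_ne_zero (hne _) (hne _)) (pow_ne_zero _ hμ))
      obtain ⟨g₃, hg₃, r2, r3, ro⟩ := htor 2 3 (a 0 * a 1 * a 2 / μ ^ 3) (by decide)
        (div_ne_zero (mul_ne_zero (mul_ne_zero (hne _) (hne _)) (hne _)) (pow_ne_zero _ hμ))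
      set g := g₁ * g₂ * g₃
      have hg : g • fr.vSum hF = μ⁻¹ • v := by
        have hμ3 : μ ^ 3 = 1 := by
          have := hN μ hμ
          rwa [Forms.qEnd_apply, hq, ← pow_succ] at this
        have hv4 : v = a 0 • fr.w 0 + a 1 • fr.w 1 + a 2 • fr.w 2 + a 3 • fr.w 3 := by
          rw [hexp, Fin.sum_univ_four]
        rw [Frame.vSum, Fin.sum_univ_four, hv4]
        simp only [g, su_add, mul_smul, smul_add]
        rw [ro 0 (by decide) (by decide), ro 1 (by decide) (by decide), r2, r3]
        simp only [su_scal, q1, q2, qo 0 (by decide) (by decide), qo 3 (by decide) (by decide)]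
        simp only [smul_smul, su_scal, p0, p1, po 2 (by decide) (by decide), po 3 (by decide) (by decide)]
        have e3 : a 3 = μ / (a 0 * a 1 * a 2) := by
          simp only [μ]; field_simp [hne 0, hne 1, hne 2]
        have := hne 0
        have := hne 1
        have := hne 2
        refine congrArg₂ (· + ·) (congrArg₂ (· + ·) (congrArg₂ (· + ·) ?_ ?_) ?_) ?_
        · congr 1; field_simp
        · congr 1; field_simp
        · congr 1; field_simp
        · congr 1
          rw [e3]; field_simp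
          linear_combination hμ3
      have hv' : h (μ⁻¹ • v) (μ⁻¹ • v) = 0 := by simp [hv]
      rw [← tv2_scale hF hh hq v hv μ⁻¹ (inv_ne_zero hμ) hv']
      have hv'' : h (g • fr.vSum hF) (g • fr.vSum hF) = 0 := by rw [hg]; exact hv'
      have e := tv2_conj hF hh hq g _ (fr.vSum_isotropic hF hh hq) hv''
      simp only [hg] at e
      rw [← e]
      exact mul_mem (mul_mem (mul_mem (mul_mem hg₁ hg₂) hg₃) hx) (inv_mem (mul_mem (mul_mem hg₁ hg₂) hg₃))
  obtain ⟨e, he⟩ := exists_blockEquiv hh (fr.nondeg_W hh)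
  have hhW := restrict_isUnitary hh (fr.nondeg_W hh)
  intro g hg
  let M := N.comap ((block h fr.W).subtype.comp e.symm.toMonoidHom)
  have htop : M = ⊤ := by
    rw [eq_top_iff, ← closure_tv2 hF hhW hq (by rw [fr.finrank_W hh]), closure_le]
    rintro _ ⟨v, hv, rfl⟩
    have hv' : h (v : V) v = 0 := hv
    show ((e.symm (tv2 hF hhW hq v hv) : block h fr.W) : SUH h) ∈ N
    have : ((e.symm (tv2 hF hhW hq v hv) : block h fr.W) : SUH h) = tv2 hF hh hq (v : V) hv' := by
      refine su_ext fun x => ?_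
      obtain ⟨y, z, hy, hz, rfl⟩ := exists_decomp hh (fr.nondeg_W hh) x
      rw [su_add, su_add, mem_block.1 (e.symm _).2 z hz, tv2_smul, tv2_smul,
        hh.comm_zero (hh.comm_zero (hz v v.2)), zero_smul, add_zero, ← he _ ⟨y, hy⟩, e.apply_symm_apply,
        tv2_smul]
      rfl
    rw [this]
    exact hmain v v.2 hv'
  have := (htop ▸ mem_top (e ⟨g, hg⟩) : e ⟨g, hg⟩ ∈ M)
  simpa [M] using this

variable {Γ : Type u} [Group Γ] [Finite Γ] {τ : Γ →* SUH h} {r : ℕ} (hτ : CentExp r τ)

include hτ

/-- Movers attached to pairs, and their lifts. -/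
theorem Frame.exists_pair_movers : ∃ G : Γ, fr.Mover (τ G) ∧ ∀ S : Finset (Fin 4), S.card = 2 →
    ∀ x, τ x ∈ block h (fr.US hF S) → x ∈ normalizer (fr.compl₀ hh τ G : Set Γ) := by
  classical
  obtain ⟨h2, hN, hfix⟩ := four_facts hF hq
  obtain ⟨ω, hω⟩ := hh.ne_id
  have hω0 : ω ≠ 0 := fun e => hω (by rw [e, map_zero])
  have hω1 : ω ≠ 1 := fun e => hω (by rw [e, map_one])
  have hω3 : ω ^ 3 = 1 := by
    have := hN ω hω0
    rw [Forms.qEnd_apply, hq, ← pow_succ] at this
    exact this
  have hω2 : ω ^ 2 ≠ 1 := fun e => hω1 (by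
    calc ω = ω * ω ^ 2 := by rw [e, mul_one]
      _ = 1 := by rw [← pow_succ', hω3])
  have mover : ∀ S : Finset (Fin 4), S.card = 2 → ∃ G : Γ, fr.Mover (τ G) ∧ τ G • fr.e = fr.e ∧ τ G • fr.f = fr.f ∧
      ∀ i, τ G • fr.w i = (if i ∈ S then ω else ω ^ 2) • fr.w i := by
    intro S hS
    obtain ⟨g, hge, hgf, hgw⟩ := fr.exists_diag hh (l := 1) (c := fun i => if i ∈ S then ω else ω ^ 2) one_ne_zero
      (fun i => by split_ifs; exacts [hN _ hω0, hN _ (pow_ne_zero _ hω0)]) (by
        rw [map_one, div_one, one_mul, ← Finset.prod_mul_prod_compl S,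
          Finset.prod_congr rfl (fun i hi => if_pos hi),
          Finset.prod_congr rfl (fun i hi => if_neg (Finset.mem_compl.1 hi)), Finset.prod_const, Finset.prod_const,
          Finset.card_compl, Fintype.card_fin, hS, ← pow_mul, ← pow_add]
        show ω ^ 6 = 1
        rw [show 6 = 3 * 2 from rfl, pow_mul, hω3, one_pow])
    obtain ⟨G, hG⟩ := hτ.surj g
    refine ⟨G, ⟨1, fun i => if i ∈ S then ω else ω ^ 2, one_ne_zero, ?_, ?_, ?_, fun i => ?_⟩, ?_, ?_, ?_⟩
    · rw [hG]; exact hge
    · rw [hG]; exact hgf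
    · rw [hG]; exact hgw
    · rw [map_one, one_mul]; dsimp only; split_ifs; exacts [hω1, hω2]
    · rw [hG, hge, one_smul]
    · rw [hG, hgf, map_one, inv_one, one_smul]
    · rw [hG]; exact hgw
  obtain ⟨G₀, hG₀, hG₀e, hG₀f, hG₀w⟩ := mover {0, 1} rfl
  refine ⟨G₀, hG₀, fun S hS x hx => ?_⟩
  obtain ⟨G, hG, hGe, hGf, hGw⟩ := mover S hS
  have hcomm : Commute (τ G) (τ G₀) := fr.diag_commute hF hh (a := 1) (b := 1) (a' := 1) (b' := 1)
    (by rw [hGe, one_smul]) (by rw [hGf, one_smul]) hGw (by rw [hG₀e, one_smul]) (by rw [hG₀f, one_smul]) hG₀w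
  have heq : fr.compl₀ hh τ G₀ = fr.compl₀ hh τ G := le_antisymm
    (fr.compl₀_le_of_commute hh hτ (by norm_num) hG hG₀ hcomm.symm)
    (fr.compl₀_le_of_commute hh hτ (by norm_num) hG₀ hG hcomm)
  rw [heq]
  have haW : τ x ∈ block h fr.W := fr.block_US_le_levi hF hh S hx
  refine fr.normalizes_compl₀ hh hτ (fun v hv => fr.levi_conj_Q hF hh haW hv) ?_
  obtain ⟨hae, haf⟩ := (fr.mem_levi hh).1 haW
  have hscal : ∀ v ∈ fr.US hF S, τ G • v = ω • v := fun v hv => by
    induction hv using Submodule.span_induction with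
    | mem y hy => obtain ⟨i, hi, rfl⟩ := hy; rw [hGw, if_pos (Finset.mem_coe.1 hi)]
    | zero => rw [smul_zero, smul_zero]
    | add y z _ _ hy hz => rw [su_add, hy, hz, smul_add]
    | smul t y _ hy => rw [su_scal, hy, smul_comm]
  refine su_ext_basis fr.c fun i => ?_
  rw [mul_smul, mul_smul, fr.c_eq]
  rcases i with i | i
  · fin_cases i
    · show τ x • τ G • fr.e = τ G • τ x • fr.e
      rw [hae, hGe, hae]
    · show τ x • τ G • fr.f = τ G • τ x • fr.f
      rw [haf, hGf, haf]
  · show τ x • τ G • fr.w i = τ G • τ x • fr.w i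
    rw [hGw, su_scal]
    by_cases hi : i ∈ S
    · rw [if_pos hi, hscal]
      refine fr.mem_US hF hh (fr.levi_smul_W hh hae haf (fr.w_mem i)) fun j hj => ?_
      have hj' : τ x • fr.w j = fr.w j := hx _ fun u hu => hh.comm_zero (fr.US_orth hF hh hu hj)
      rw [← hj', su_form, fr.hww, if_neg]
      rintro rfl
      exact hj hi
    · have hi' : τ x • fr.w i = fr.w i := hx _ fun u hu => hh.comm_zero (fr.US_orth hF hh hu hi)
      rw [hi', hGw]

end Levi

end Cfsg.Agent.Schur.Unitary
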