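import Cfsg.Agent.Lib.Schur.Unitary.SixTwo
import Cfsg.Agent.Lib.Schur.Unitary.FourThreePSU

/-!
The kernel of a stem extension of `PSU₆(2)` is an image of `Z₃ × Z₂ × Z₂`.
-/

set_option autoImplicit false

namespace Cfsg.Agent.Schur.Unitary

open Subgroup Cfsg.Agent.ClassicalSimple
open scoped commutatorElement

universe u

/-- The additive group of a field with four elements is an image of `Z₂ × Z₂`. -/
theorem exists_addEquiv_four {F : Type u} [Field F] [Fintype F] (hF : Fintype.card F = 2 ^ 2) :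
    Nonempty (ZMod 2 × ZMod 2 ≃+ F) := by
  haveI := Fact.mk Nat.prime_two
  haveI : CharP F 2 := by
    obtain ⟨p', k, hp', hchar, hqp⟩ := Forms.exists_prime_pow_q hF
    have hk0 : k ≠ 0 := fun e => by rw [e] at hqp; simp at hqp
    have : p' ∣ 2 := hqp ▸ dvd_pow_self p' hk0
    rwa [(Nat.prime_dvd_prime_iff_eq hp' Nat.prime_two).1 this] at hchar
  letI : Algebra (ZMod 2) F := ZMod.algebra F 2
  have h2 : Module.finrank (ZMod 2) (ZMod 2 × ZMod 2) = Module.finrank (ZMod 2) F := by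
    have h := Module.card_eq_pow_finrank (K := ZMod 2) (V := F)
    rw [hF, ZMod.card] at h
    rw [Module.finrank_prod, Module.finrank_self, ← Nat.pow_right_injective le_rfl h]
  exact ⟨(LinearEquiv.ofFinrankEq _ _ h2).toAddEquiv⟩

/-- The kernel of a stem extension of `PSU₆(2)` is an image of `Z₃ × Z₂ × Z₂`. -/
theorem exists_surjective_psu_six {F : Type u} [Field F] [Fintype F] (hF : Fintype.card F = 2 ^ 2)
    {Γ : Type u} [Group Γ] [Finite Γ] (σ : Γ →* Cfsg.PSU 6 F 2) (hσ : Cfsg.IsStemExtension σ) :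
    ∃ π : Multiplicative (ZMod 3 × ZMod 2 × ZMod 2) →* σ.ker, Function.Surjective π := by
  classical
  set Z := center (Cfsg.SU 6 F 2)
  obtain ⟨Δ, _, _, τ, f, hτ, hf, hfσ⟩ := exists_perfect_over
    (SU_perfect hF (n := 6) (by norm_num) (by omega)) (QuotientGroup.mk'_surjective Z) hσ
  -- the kernel over the special unitary group
  let e := suEquiv hF (n := 6)
  have hk : (e.toMonoidHom.comp τ).ker = τ.ker := by
    ext y; simp
  obtain ⟨g, hg⟩ := exists_ker_range_six hF (hermB_isUnitary hF (n := 6)) (by simp)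
    (e.toMonoidHom.comp τ) ⟨e.surjective.comp hτ.1, hk ▸ hτ.2.1, hk ▸ hτ.2.2⟩
  rw [hk] at hg
  obtain ⟨a4⟩ := exists_addEquiv_four hF
  have hg2 : ∀ x ∈ τ.ker, x ^ 2 = 1 := by
    rw [← hg]
    rintro _ ⟨b, rfl⟩
    rw [← map_pow]
    have h2 : (2 : F) = 0 := (four_facts hF rfl).1
    have : b ^ 2 = 1 := Multiplicative.toAdd.injective (by simp [h2])
    rw [this, map_one]
  -- a lift of a generator of the centre
  haveI := S2089.isCyclic_center hF (n := 6) (by norm_num)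
  obtain ⟨z, hz⟩ := IsCyclic.exists_generator (α := Z)
  have hz3 : z ^ 3 = 1 := by
    have hc : Nat.card Z = 3 := (Forms.card_center_SU hF (by norm_num)).trans (by norm_num)
    have h := pow_card_eq_one' (x := z)
    rwa [hc] at h
  obtain ⟨y₀, hy₀⟩ := hτ.1 (z : Cfsg.SU 6 F 2)
  let y := y₀ ^ 4
  have hy : τ y = z := by
    show τ (y₀ ^ 4) = _
    rw [map_pow, hy₀, ← Subgroup.coe_pow, show (4 : ℕ) = 3 + 1 from rfl, pow_succ, hz3, one_mul]
  have hy3 : y ^ 3 = 1 := by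
    have h1 : τ (y₀ ^ 3) = 1 := by rw [map_pow, hy₀, ← Subgroup.coe_pow, hz3, Subgroup.coe_one]
    show (y₀ ^ 4) ^ 3 = 1
    rw [← pow_mul, show 4 * 3 = 3 * 4 from rfl, pow_mul, show (4 : ℕ) = 2 * 2 from rfl, pow_mul, hg2 _ h1, one_pow]
  have hker : ∀ x, f x ∈ σ.ker ↔ τ x ∈ Z := fun x => by
    rw [MonoidHom.mem_ker, hfσ]
    exact QuotientGroup.eq_one_iff _
  letI : CommGroup σ.ker :=
    { (inferInstance : Group σ.ker) with
      mul_comm := fun a b => Subtype.ext (mem_center_iff.1 (hσ.2.1 b.2) a) }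
  -- the two parts
  let yk : σ.ker := ⟨f y, (hker y).2 (by rw [hy]; exact z.2)⟩
  have hyk : ((3 : ℕ) : ℤ) • (Additive.ofMul yk) = 0 := by
    rw [natCast_zsmul, ← ofMul_pow]
    refine congrArg Additive.ofMul (Subtype.ext ?_)
    show f y ^ 3 = 1
    rw [← map_pow, hy3, map_one]
  let p3 : ZMod 3 →+ Additive σ.ker := ZMod.lift 3 ⟨zmultiplesHom _ (Additive.ofMul yk), by simpa using hyk⟩
  let p4 : Multiplicative (ZMod 2 × ZMod 2) →* σ.ker :=
    ((f.comp g).comp a4.toAddMonoidHom.toMultiplicative).codRestrict _ fun b => (hker _).2 (by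
      have : g (a4.toAddMonoidHom.toMultiplicative b) ∈ τ.ker := hg ▸ ⟨_, rfl⟩
      rw [MonoidHom.mem_ker] at this
      rw [show τ (g (a4.toAddMonoidHom.toMultiplicative b)) = 1 from this]; exact one_mem _)
  let P : Multiplicative (ZMod 3 × ZMod 2 × ZMod 2) →* σ.ker := MonoidHom.mk'
    (fun w => Additive.toMul (p3 w.toAdd.1) * p4 (Multiplicative.ofAdd w.toAdd.2)) fun a b => by
      rw [toAdd_mul, Prod.fst_add, Prod.snd_add, map_add, toMul_add, ofAdd_add, map_mul]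
      exact mul_mul_mul_comm _ _ _ _
  refine ⟨P, fun k => ?_⟩
  obtain ⟨x, hx⟩ := hf k.1
  have hxZ : τ x ∈ Z := (hker x).1 (hx ▸ k.2)
  obtain ⟨i, hi⟩ := Subgroup.mem_zpowers_iff.1 (hz ⟨τ x, hxZ⟩)
  have hxk : (y ^ i)⁻¹ * x ∈ τ.ker := by
    rw [MonoidHom.mem_ker, map_mul, map_inv, map_zpow, hy, ← Subgroup.coe_zpow, hi, inv_mul_cancel]
  rw [← hg] at hxk
  obtain ⟨b, hb⟩ := hxk
  refine ⟨Multiplicative.ofAdd ((i : ZMod 3), a4.symm b.toAdd), ?_⟩
  show Additive.toMul (p3 (i : ZMod 3)) * p4 (Multiplicative.ofAdd (a4.symm b.toAdd)) = k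
  rw [show p3 (i : ZMod 3) = i • Additive.ofMul yk from ZMod.lift_coe _ _ _]
  refine Subtype.ext ?_
  show f y ^ i * f (g (Multiplicative.ofAdd (a4 (a4.symm b.toAdd)))) = k.1
  rw [a4.apply_symm_apply, ofAdd_toAdd, hb, ← map_zpow, ← map_mul, mul_inv_cancel_left, hx]

end Cfsg.Agent.Schur.Unitary
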